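import Groth.Agent.Ega2.H286.NormGlob
import Groth.Agent.Ega2.H286.NormLE
import Groth.Agent.Ega2.H292.NormData
import Groth.Agent.Grpsch.PicGrp
import Groth.Agent.Ega2.AmpleTransfer
import Mathlib.AlgebraicGeometry.FunctionField

/-!
# Norms and torsion of the Picard group

`exists_pow`: `g : X' ⟶ X` finite surjective, `X` normal Noetherian integral: there is `n > 0` such that every class
of invertible modules on `X` that becomes trivial on `X'` is killed by `n`.
-/

set_option autoImplicit false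
universe u
open CategoryTheory CategoryTheory.Limits AlgebraicGeometry Opposite TopologicalSpace

namespace K317.NormPic

open Groth.Agent Groth.Agent.Grpsch.PicGrp Groth.Agent.Fdesc.LocGen Groth.Agent.Ega2.Nv

variable {X' X : Scheme.{u}} {g : X' ⟶ X}

theorem nv_eq_top_iff (M : X.Modules) (s : Γ(M, ⊤)) : nv M s = ⊤ ↔ IsGen s := by
  have h := le_nv_iff M s (le_refl ⊤)
  rw [res_refl] at h
  rw [← h, top_le_iff]

theorem nonempty_iso_iff (M : X.Modules) :
    Nonempty (M ≅ Coh.structureModule X) ↔ ∃ s : Γ(M, ⊤), IsGen s := by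
  constructor
  · rintro ⟨e⟩
    exact ⟨sec e.inv ⊤, (isIso_iff_isGen e.inv).1 inferInstance⟩
  · rintro ⟨s, hs⟩
    have : IsIso (homOf s) := by
      rw [isIso_iff_isGen, sec_homOf, res_refl]
      exact hs
    exact ⟨(asIso (homOf s)).symm⟩

/-- A class killed by pullback along a finite morphism with a norm of degree `n` is killed by `n`. -/
theorem pow_eq_one [IsFinite g] {n : ℕ} (D : Ega2.H292.NormData.NormData g (𝟙 X) n) (c : Pic X)
    (hc : pull g c = 1) : c ^ n = 1 := by
  induction c using ind with | _ L hL => ?_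
  rw [pull_mk, mk_eq_one_iff, nonempty_iso_iff] at hc
  obtain ⟨e, he⟩ := hc
  have hLG : LocGen L ⊤ := Ega2.Ample.locGen_top_iff.2 hL
  obtain ⟨t, -, ht, -⟩ := Ega2.H292.NormData.NormData.exists_norm D hLG (m := 1) (pow e 1)
  have h1 : nv _ t = ⊤ := by
    rw [eq_top_iff]
    intro z _
    refine ht z trivial fun x₁ _ => ?_
    have h0 : nv _ (pow e 1) = ⊤ := (nv_eq_top_iff _ _).2 (he.pow 1)
    exact (congrArg (fun U : X'.Opens => x₁ ∈ U) h0).mpr trivial
  have h2 := (nv_eq_top_iff _ _).1 h1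
  have h3 : Nonempty (CohB1.tensorPow ((Scheme.Modules.pullback (𝟙 X)).obj L) (n * 1) ≅ Coh.structureModule X) :=
    (nonempty_iso_iff _).2 ⟨t, h2⟩
  have h4 := (mk_eq_one_iff (isInvertible_tensorPow (isInvertible_pullback (𝟙 X) hL) (n * 1))).2 h3
  rw [mk_tensorPow (isInvertible_pullback (𝟙 X) hL), ← pull_mk (𝟙 X) hL, pull_id, mul_one] at h4
  exact h4

/-- Norms along finite surjective morphisms onto a normal integral scheme. -/
theorem exists_pow [IsFinite g] [Surjective g] [IsIntegral X] [NoetherianSpace X]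
    (hX : ∀ x : X, IsIntegrallyClosed (X.presheaf.stalk x)) :
    ∃ n : ℕ, 0 < n ∧ ∀ c : Pic X, pull g c = 1 → c ^ n = 1 := by
  obtain ⟨n, hn, ⟨D⟩⟩ := Ega2.H286.NormGlob.exists_normData (g := g) fun V b x hx => by
    have := hX x
    have : IsDomain (X.presheaf.stalk x) := inferInstance
    exact Ega2.H286.NormLE.hasCp_of_normal g b hx
  exact ⟨n, hn, fun c hc => pow_eq_one D c hc⟩

/-- The count of `ℓ`-torsion classes does not decrease under a finite surjective cover of a normal scheme, for `ℓ` prime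
to the norm exponent. -/
theorem card_le {n ℓ : ℕ} (h : ∀ c : Pic X, pull g c = 1 → c ^ n = 1) (hcop : Nat.Coprime n ℓ)
    (hfin : Finite {c : Pic X' // c ^ ℓ = 1}) :
    Nat.card {c : Pic X // c ^ ℓ = 1} ≤ Nat.card {c : Pic X' // c ^ ℓ = 1} := by
  let φ : {c : Pic X // c ^ ℓ = 1} → {c : Pic X' // c ^ ℓ = 1} :=
    fun c => ⟨pull g c.1, by rw [← map_pow, c.2, map_one]⟩
  refine Nat.card_le_card_of_injective φ ?_
  rintro ⟨a, ha⟩ ⟨b, hb⟩ hab
  have h1 : pull g a = pull g b := congrArg Subtype.val hab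
  have h2 : pull g (a * b⁻¹) = 1 := by rw [map_mul, map_inv, h1, mul_inv_cancel]
  have h3 : (a * b⁻¹) ^ n = 1 := h _ h2
  have h4 : (a * b⁻¹) ^ ℓ = 1 := by rw [mul_pow, inv_pow, ha, hb, inv_one, one_mul]
  have h5 : orderOf (a * b⁻¹) ∣ Nat.gcd n ℓ := Nat.dvd_gcd (orderOf_dvd_of_pow_eq_one h3) (orderOf_dvd_of_pow_eq_one h4)
  rw [hcop.gcd_eq_one, Nat.dvd_one, orderOf_eq_one_iff] at h5
  exact Subtype.ext (mul_inv_eq_one.1 h5)

end K317.NormPic
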