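import Groth.Agent.Krr.H495.Rank
import Groth.Agent.CurvesC.HV
import Mathlib.Data.Fin.Tuple.Sort
import Mathlib.Order.Interval.Finset.Fin

/-!
# Finite direct sums: cohomology and rank; sorted sequences of integers
-/

set_option autoImplicit false
universe u v w
open CategoryTheory CategoryTheory.Limits AlgebraicGeometry Opposite TopologicalSpace

namespace K317.Sums

noncomputable instance hasFiniteBiproducts_modules (X : Scheme.{u}) : HasFiniteBiproducts X.Modules :=
  HasFiniteBiproducts.of_hasFiniteProducts

section Cat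

variable {C : Type v} [Category.{w} C] [Preadditive C] [HasFiniteBiproducts C] [HasBinaryBiproducts C]

/-- `⨁_{i ≤ r} F i = F 0 ⊞ ⨁_{i < r} F (i + 1)`. -/
noncomputable def biproductSucc {r : ℕ} (F : Fin (r + 1) → C) :
    (⨁ F) ≅ F 0 ⊞ (⨁ fun i : Fin r => F i.succ) where
  hom := biprod.lift (biproduct.π F 0) (biproduct.lift fun i => biproduct.π F i.succ)
  inv := biprod.desc (biproduct.ι F 0) (biproduct.desc fun i => biproduct.ι F i.succ)
  hom_inv_id := by
    rw [biprod.lift_desc, biproduct.lift_desc, ← biproduct.total, Fin.sum_univ_succ]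
  inv_hom_id := by
    apply biprod.hom_ext'
    · apply biprod.hom_ext
      · simp
      · simp only [Category.comp_id, Category.assoc, biprod.inl_desc_assoc, biprod.lift_snd,
          biprod.inl_snd]
        apply biproduct.hom_ext
        intro i
        rw [Category.assoc, biproduct.lift_π, biproduct.ι_π_ne _ (Fin.succ_ne_zero i).symm, zero_comp]
    · apply biprod.hom_ext
      · simp only [Category.comp_id, Category.assoc, biprod.inr_desc_assoc, biprod.lift_fst,
          biprod.inr_fst]
        apply biproduct.hom_ext'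
        intro i
        rw [biproduct.ι_desc_assoc, biproduct.ι_π_ne _ (Fin.succ_ne_zero i), comp_zero]
      · simp only [Category.comp_id, Category.assoc, biprod.inr_desc_assoc, biprod.lift_snd,
          biprod.inr_snd]
        apply biproduct.hom_ext'
        intro i
        apply biproduct.hom_ext
        intro j
        rw [Category.assoc, Category.assoc, biproduct.lift_π, biproduct.ι_desc_assoc]
        by_cases h : i = j
        · subst h
          rw [biproduct.ι_π_self, Category.comp_id, biproduct.ι_π_self]
        · rw [biproduct.ι_π_ne _ (fun h' => h (Fin.succ_injective _ h')), Category.comp_id,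
            biproduct.ι_π_ne _ h]

end Cat

section Rank

open Groth.Agent.Krr.H495.Rank

variable {X : Scheme.{u}}

theorem rank_zero_of_isZero {M : X.Modules} (h : IsZero M) : FlatMod.IsFinLocFreeOfRank 0 M := by
  rw [isFinLocFreeOfRank_iff']
  intro x
  refine ⟨⊤, trivial, Fin.elim0, fun U hU => ⟨fun a b _ => funext fun i => i.elim0, fun s => ⟨0, ?_⟩⟩⟩
  have h1 : (𝟙 M : M ⟶ M) = 0 := h.eq_of_src _ _
  have h2 : ∀ t : Γ(M, U), t = 0 := fun t => by
    have h3 : (𝟙 M : M ⟶ M).app U t = t := rfl
    rw [← h3, h1]
    rfl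
  rw [h2 s]
  exact h2 _

/-- A direct sum of `r` modules of rank one has rank `r`. -/
theorem rank_biproduct : ∀ {r : ℕ} (F : Fin r → X.Modules) (_ : ∀ i, FlatMod.IsFinLocFreeOfRank 1 (F i)),
    FlatMod.IsFinLocFreeOfRank r (⨁ F) := by
  intro r
  induction r with
  | zero =>
    intro F _
    exact rank_zero_of_isZero (by
      rw [IsZero.iff_id_eq_zero]
      apply biproduct.hom_ext
      exact fun i => i.elim0)
  | succ r ih =>
    intro F hF
    refine rank_iso (biproductSucc F).symm ?_
    have h := rank_biprod (hF 0) (ih (fun i : Fin r => F i.succ) fun i => hF _)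
    have e : 1 + r = r + 1 := add_comm 1 r
    exact (congrArg (fun n : ℕ => FlatMod.IsFinLocFreeOfRank n (F 0 ⊞ ⨁ fun i : Fin r => F i.succ)) e).mp h

theorem rank_coproduct {r : ℕ} (F : Fin r → X.Modules) (hF : ∀ i, FlatMod.IsFinLocFreeOfRank 1 (F i)) :
    FlatMod.IsFinLocFreeOfRank r (∐ F) :=
  rank_iso (biproduct.isoCoproduct F) (rank_biproduct F hF)

end Rank

section Coh

open Groth.Agent.CurvesC

variable (A : Type u) [CommRing A] {X : Scheme.{u}} [X.Over (Spec (CommRingCat.of A))]

/-- Cohomology of a finite direct sum. -/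
noncomputable def hvBiproduct {r : ℕ} (F : Fin r → X.Modules) (n : ℕ) :
    HV X (⨁ F) n ≃ₗ[A] ((i : Fin r) → HV X (F i) n) where
  toFun x i := HV.map A (biproduct.π F i) n x
  map_add' x y := by
    ext i
    exact map_add _ _ _
  map_smul' a x := by
    ext i
    exact map_smul _ _ _
  invFun y := ∑ i, HV.map A (biproduct.ι F i) n (y i)
  left_inv x := by
    have h1 : HV.map A (𝟙 (⨁ F)) n x = x := by
      rw [HV.map_id]
      rfl
    conv_rhs => rw [← h1, ← biproduct.total]
    have h2 : ∀ s : Finset (Fin r), HV.map A (∑ i ∈ s, biproduct.π F i ≫ biproduct.ι F i) n x =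
        ∑ i ∈ s, HV.map A (biproduct.ι F i) n (HV.map A (biproduct.π F i) n x) := by
      intro s
      induction s using Finset.induction_on with
      | empty =>
        rw [Finset.sum_empty, Finset.sum_empty, HV.map_zero]
        rfl
      | insert i s hi ih =>
        rw [Finset.sum_insert hi, Finset.sum_insert hi, HV.map_add, ← ih, LinearMap.add_apply,
          HV.map_comp_apply]
    exact (h2 _).symm
  right_inv y := by
    ext i
    change HV.map A (biproduct.π F i) n (∑ i, HV.map A (biproduct.ι F i) n (y i)) = y i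
    rw [map_sum, Finset.sum_eq_single i]
    · rw [← HV.map_comp_apply, biproduct.ι_π_self, HV.map_id]
      rfl
    · intro j _ hj
      rw [← HV.map_comp_apply, biproduct.ι_π_ne _ hj, HV.map_zero]
      rfl
    · intro h
      exact absurd (Finset.mem_univ i) h

/-- An isomorphism on cohomology. -/
noncomputable def hvIso {F G : X.Modules} (e : F ≅ G) (n : ℕ) : HV X F n ≃ₗ[A] HV X G n :=
  LinearEquiv.ofLinear (HV.map A e.hom n) (HV.map A e.inv n)
    (by rw [← HV.map_comp, e.inv_hom_id, HV.map_id]) (by rw [← HV.map_comp, e.hom_inv_id, HV.map_id])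

end Coh

section Field

open Groth.Agent.CurvesC

variable (k : Type u) [Field k] {X : Scheme.{u}} [X.Over (Spec (CommRingCat.of k))]

theorem finrank_coproduct {r : ℕ} (F : Fin r → X.Modules) (n : ℕ)
    (hF : ∀ i, Module.Finite k (HV X (F i) n)) :
    Module.finrank k (HV X (∐ F) n) = ∑ i, Module.finrank k (HV X (F i) n) := by
  have h1 := (hvIso k (biproduct.isoCoproduct F) n).finrank_eq
  have h2 := (hvBiproduct k F n).finrank_eq
  rw [Module.finrank_pi_fintype] at h2
  exact h1.symm.trans h2

theorem finite_coproduct {r : ℕ} (F : Fin r → X.Modules) (n : ℕ)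
    (hF : ∀ i, Module.Finite k (HV X (F i) n)) : Module.Finite k (HV X (∐ F) n) :=
  Module.Finite.equiv ((hvIso k (biproduct.isoCoproduct F) n).symm ≪≫ₗ hvBiproduct k F n).symm

end Field

section Sorting

/-- The number of terms at least `m` of a sequence, from its sections. -/
theorem card_eq {r : ℕ} (d : Fin r → ℤ) (m : ℤ) :
    ∑ i, (d i - m + 1).toNat = ∑ i, (d i - (m + 1) + 1).toNat +
      (Finset.univ.filter fun i => m ≤ d i).card := by
  rw [Finset.card_filter, ← Finset.sum_add_distrib]
  refine Finset.sum_congr rfl fun i _ => ?_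
  split_ifs with h <;> omega

theorem lt_card_iff {r : ℕ} {d : Fin r → ℤ} (hd : Antitone d) (m : ℤ) (i : Fin r) :
    (i : ℕ) < (Finset.univ.filter fun j => m ≤ d j).card ↔ m ≤ d i := by
  constructor
  · intro h
    by_contra hm
    have h1 : (Finset.univ.filter fun j => m ≤ d j) ⊆ Finset.Iio i := by
      intro j hj
      rw [Finset.mem_filter] at hj
      rw [Finset.mem_Iio]
      by_contra hij
      exact hm (hj.2.trans (hd (not_lt.1 hij)))
    have h2 := Finset.card_le_card h1
    rw [Fin.card_Iio] at h2
    omega
  · intro h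
    have h1 : Finset.Iic i ⊆ (Finset.univ.filter fun j => m ≤ d j) := by
      intro j hj
      rw [Finset.mem_filter]
      exact ⟨Finset.mem_univ _, h.trans (hd (Finset.mem_Iic.1 hj))⟩
    have h2 := Finset.card_le_card h1
    rw [Fin.card_Iic] at h2
    omega

theorem eq_of_antitone {r : ℕ} {d e : Fin r → ℤ} (hd : Antitone d) (he : Antitone e)
    (h : ∀ m : ℤ, ∑ i, (d i - m + 1).toNat = ∑ i, (e i - m + 1).toNat) : d = e := by
  have h1 : ∀ m : ℤ, (Finset.univ.filter fun i => m ≤ d i).card =
      (Finset.univ.filter fun i => m ≤ e i).card := by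
    intro m
    have h2 := card_eq d m
    have h3 := card_eq e m
    have h4 := h m
    have h5 := h (m + 1)
    omega
  funext i
  have h2 : ∀ m : ℤ, m ≤ d i ↔ m ≤ e i := fun m => by
    rw [← lt_card_iff hd, ← lt_card_iff he, h1]
  exact le_antisymm ((h2 _).1 le_rfl) ((h2 _).2 le_rfl)

/-- Any finite sequence of integers can be put in non-increasing order. -/
theorem exists_antitone {r : ℕ} (a : Fin r → ℤ) : ∃ σ : Equiv.Perm (Fin r), Antitone (a ∘ σ) := by
  refine ⟨Tuple.sort fun i => -a i, fun i j hij => ?_⟩
  have := Tuple.monotone_sort (fun i => -a i) hij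
  simp only [Function.comp_apply] at this ⊢
  omega

end Sorting

end K317.Sums
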