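import Groth.Agent.S1536
import Groth.Agent.Flat2B.SmoothGeom
import Groth.Agent.Sga5.SmoothField
import Groth.Agent.Ega1.GenPts
import Groth.Agent.CalgA.RegBasic
import Groth.Prelude.Def_Curve
import Mathlib.AlgebraicGeometry.Geometrically.Connected

/-!
# Geometrically connected smooth proper curves: integrality and `H^0 = k`
-/

set_option autoImplicit false

universe u

open CategoryTheory CategoryTheory.Limits AlgebraicGeometry

namespace K317.SmoothCurve

/-- A connected scheme smooth over a field is integral. -/
theorem isIntegral_of_smooth (K : Type u) [Field K] {X : Scheme.{u}} (g : X ⟶ Spec (CommRingCat.of K))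
    [Smooth g] [ConnectedSpace X] : IsIntegral X := by
  have : IsLocallyNoetherian X := LocallyOfFiniteType.isLocallyNoetherian g
  refine (Groth.Agent.Ega1.GenPts.isIntegral_iff X).2 ⟨inferInstance, fun x => ?_⟩
  have := Groth.Agent.Sga5.SmoothField.isRegularLocalRing_stalk g x
  exact Groth.Agent.CalgA.RegBasic.isDomain _

theorem geometricallyReduced_of_smooth {X Y : Scheme.{u}} (f : X ⟶ Y) [Smooth f] :
    GeometricallyReduced f := by
  refine ⟨fun K _ y Z fst snd hZ => ?_⟩
  have : Smooth snd := MorphismProperty.of_isPullback hZ inferInstance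
  exact Groth.Agent.Flat2B.SmoothGeom.isReduced_of_smooth snd

theorem connectedSpace_of_geometricallyConnected (k : Type u) [Field k] {X : Scheme.{u}}
    (f : X ⟶ Spec (CommRingCat.of k)) [GeometricallyConnected f] : ConnectedSpace X := by
  have : Surjective f := inferInstance
  obtain ⟨x, -⟩ := f.surjective (IsLocalRing.closedPoint k)
  have : Nonempty X := ⟨x⟩
  exact GeometricallyConnected.connectedSpace_of_subsingleton f

variable (k : Type u) [Field k] (X : Scheme.{u}) [X.Over (Spec (CommRingCat.of k))]
    [IsProper (X ↘ (Spec (CommRingCat.of k)))] [Smooth (X ↘ (Spec (CommRingCat.of k)))]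
    [GeometricallyConnected (X ↘ (Spec (CommRingCat.of k)))]

include k in
theorem isIntegral : IsIntegral X := by
  have := connectedSpace_of_geometricallyConnected k (X ↘ (Spec (CommRingCat.of k)))
  exact isIntegral_of_smooth k (X ↘ (Spec (CommRingCat.of k)))

theorem h0_eq_one : Module.finrank k (Coh.HH X (Coh.structureModule X) 0) = 1 := by
  have := geometricallyReduced_of_smooth (X ↘ (Spec (CommRingCat.of k)))
  exact Groth.Agent.S1536.result k X

theorem isSmoothProperCurve (hdim : topologicalKrullDim X = 1) :
    Curve.IsSmoothProperCurve k X (X ↘ (Spec (CommRingCat.of k))) :=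
  ⟨inferInstance, inferInstance, isIntegral k X, hdim⟩

end K317.SmoothCurve
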