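import Groth.Agent.Curves.K317.NormPic
import Groth.Agent.Curves.K317.SmoothCurve
import Groth.Agent.CurvesC.RegNormal
import Groth.Agent.Pi1C.LefReduce
import Groth.Agent.Fga.DimLt
import Groth.Agent.S0223
import Groth.Agent.Picfga.CurveRelDim
import Groth.Agent.UnramA.SmoothFibreDim
import Groth.Agent.VarietyB.DimTop
import Groth.Prelude.Def_Curv2

/-!
# The genus does not increase along a finite morphism of smooth proper curves
-/

set_option autoImplicit false
universe u
open CategoryTheory CategoryTheory.Limits AlgebraicGeometry Opposite TopologicalSpace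

namespace K317.GenusLe

open Groth.Agent Groth.Agent.Grpsch.PicGrp

/-- A finite morphism of integral schemes of dimension one is surjective. -/
theorem surjective_of_dim {X Y : Scheme.{u}} [IrreducibleSpace X] [IrreducibleSpace Y] (f : X ⟶ Y) [IsFinite f]
    (hX : topologicalKrullDim X = 1) (hY : topologicalKrullDim Y = 1) : Surjective f := by
  have h1 := Pi1C.LefReduce.dim_closure_eq f (genericPoint X)
  have h2 : closure ({genericPoint X} : Set X) = Set.univ := genericPoint_closure _
  have h3 : topologicalKrullDim (closure ({genericPoint X} : Set X)) = 1 := by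
    rw [h2, ← hX]
    exact IsHomeomorph.topologicalKrullDim_eq _ (Homeomorph.Set.univ X).isHomeomorph
  have h4 : closure ({f (genericPoint X)} : Set Y) = Set.univ := by
    by_contra hne
    have h := Fga.DimLt.exists_ltSeries_succ isClosed_closure hne (n := 1) (by rw [← h1, h3]; exact le_rfl)
    rw [hY] at h
    have h' : ((2 : ℕ) : WithBot ℕ∞) ≤ ((1 : ℕ) : WithBot ℕ∞) := h
    exact absurd (by exact_mod_cast h') (by norm_num : ¬ (2 : ℕ) ≤ 1)
  refine ⟨fun y => ?_⟩
  have h5 : closure ({f (genericPoint X)} : Set Y) ⊆ Set.range f :=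
    (f.isClosedMap.isClosed_range).closure_subset_iff.2 (by rintro _ rfl; exact ⟨_, rfl⟩)
  exact h5 (h4 ▸ trivial)

/-- A prime invertible in `K` and not dividing `n`. -/
theorem exists_prime (K : Type u) [Field K] {n : ℕ} (hn : 0 < n) :
    ∃ ℓ : ℕ, ℓ.Prime ∧ (ℓ : K) ≠ 0 ∧ Nat.Coprime n ℓ := by
  obtain ⟨ℓ, hℓ, hp⟩ := Nat.exists_infinite_primes (n + ringChar K + 1)
  refine ⟨ℓ, hp, fun h0 => ?_, ?_⟩
  · have h1 := (ringChar.spec K ℓ).1 h0
    rcases (Nat.dvd_prime hp).1 h1 with h | h
    · exact (CharP.ringChar_ne_one (R := K)) h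
    · omega
  · refine ((Nat.Prime.coprime_iff_not_dvd hp).2 fun h => ?_).symm
    have := Nat.le_of_dvd hn h
    omega

/-- The comparison of genera from the count of torsion classes. -/
theorem le_of_card {X Y : Scheme.{u}} (f : X ⟶ Y) [IsFinite f] [Surjective f] [IsIntegral Y] [NoetherianSpace Y]
    (hY : ∀ y : Y, IsIntegrallyClosed (Y.presheaf.stalk y)) (K : Type u) [Field K] {a b : ℕ}
    (hcX : ∀ n : ℕ, (n : K) ≠ 0 → Nat.card {c : Pic X // c ^ n = 1} = n ^ (2 * a))
    (hcY : ∀ n : ℕ, (n : K) ≠ 0 → Nat.card {c : Pic Y // c ^ n = 1} = n ^ (2 * b)) : b ≤ a := by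
  obtain ⟨n, hn, hc⟩ := NormPic.exists_pow (g := f) hY
  obtain ⟨ℓ, hℓ, hℓK, hcop⟩ := exists_prime K hn
  have hfin : Finite {c : Pic X // c ^ ℓ = 1} := by
    refine (Nat.finite_of_card_ne_zero ?_)
    rw [hcX ℓ hℓK]
    exact pow_ne_zero _ hℓ.ne_zero
  have h1 := NormPic.card_le (g := f) hc hcop hfin
  rw [hcX ℓ hℓK, hcY ℓ hℓK] at h1
  have h2 := (Nat.pow_le_pow_iff_right hℓ.one_lt).1 h1
  omega

/-- The count of torsion classes, as an input. -/
def CardTorsion : Prop := ∀ (K : Type u) [Field K] [IsAlgClosed K] (C : Scheme.{u})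
    (c : C ⟶ Spec (CommRingCat.of K)) [IsProper c] [Smooth c] [IsIntegral C]
    (_ : topologicalKrullDim C = 1) [C.Over (Spec (CommRingCat.of K))]
    (_ : C ↘ Spec (CommRingCat.of K) = c) (n : ℕ) (_ : (n : K) ≠ 0),
    Nat.card {c : Pic C // c ^ n = 1} =
      n ^ (2 * Module.finrank K (Coh.HH C (Coh.structureModule C) 1))

theorem dim_eq_one (K : Type u) [Field K] {X : Scheme.{u}} (g : X ⟶ Spec (CommRingCat.of K))
    [SmoothOfRelativeDimension 1 g] [Nonempty X] : topologicalKrullDim X = 1 := by
  rw [VarietyB.DimTop.topologicalKrullDim_eq_iSup_localDim]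
  simp_rw [UnramA.SmoothFibreDim.localDim_eq 1 g]
  exact ciSup_const

theorem main (H : CardTorsion.{u}) (k : Type u) [Field k] {X Y : Scheme.{u}}
    (p : X ⟶ Spec (CommRingCat.of k)) (q : Y ⟶ Spec (CommRingCat.of k))
    [IsProper p] [Smooth p] [GeometricallyConnected p] [IsProper q] [Smooth q] [GeometricallyConnected q]
    (hX : topologicalKrullDim X = 1) (hY : topologicalKrullDim Y = 1)
    (f : X ⟶ Y) [IsFinite f] (hf : f ≫ q = p) :
    @Curv2.genus k _ Y ⟨q⟩ ≤ @Curv2.genus k _ X ⟨p⟩ := by
  subst hf
  let oX : X.Over (Spec (CommRingCat.of k)) := ⟨f ≫ q⟩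
  let oY : Y.Over (Spec (CommRingCat.of k)) := ⟨q⟩
  have pX : IsProper (X ↘ Spec (CommRingCat.of k)) := inferInstanceAs (IsProper (f ≫ q))
  have pY : IsProper (Y ↘ Spec (CommRingCat.of k)) := inferInstanceAs (IsProper q)
  have hXc := SmoothCurve.connectedSpace_of_geometricallyConnected k (f ≫ q)
  have hYc := SmoothCurve.connectedSpace_of_geometricallyConnected k q
  have hXi := SmoothCurve.isIntegral_of_smooth k (f ≫ q)
  have hYi := SmoothCurve.isIntegral_of_smooth k q
  have hfs := surjective_of_dim f hX hY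
  have hX1 := Picfga.CurveRelDim.smoothOfRelativeDimension_of_topologicalKrullDim_eq k X (f ≫ q) 1 hX
  have hY1 := Picfga.CurveRelDim.smoothOfRelativeDimension_of_topologicalKrullDim_eq k Y q 1 hY
  let K := AlgebraicClosure k
  let s : Spec (CommRingCat.of K) ⟶ Spec (CommRingCat.of k) := Spec.map (CommRingCat.ofHom (algebraMap k K))
  have hq := IsPullback.of_hasPullback q s
  have hff := IsPullback.of_hasPullback f (pullback.fst q s)
  have hp := hff.paste_vert hq
  let YK := pullback q s
  let XK := pullback f (pullback.fst q s)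
  let qK : YK ⟶ Spec (CommRingCat.of K) := pullback.snd q s
  let fK : XK ⟶ YK := pullback.snd f (pullback.fst q s)
  have i1 : IsFinite fK := MorphismProperty.of_isPullback hff inferInstance
  have i2 : Surjective fK := MorphismProperty.of_isPullback hff inferInstance
  have i3 : IsProper qK := MorphismProperty.of_isPullback hq inferInstance
  have i4 : Smooth qK := MorphismProperty.of_isPullback hq inferInstance
  have i5 : GeometricallyConnected qK := MorphismProperty.of_isPullback hq inferInstance
  have i6 : IsProper (fK ≫ qK) := MorphismProperty.of_isPullback hp inferInstance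
  have i7 : Smooth (fK ≫ qK) := MorphismProperty.of_isPullback hp inferInstance
  have i8 : GeometricallyConnected (fK ≫ qK) := MorphismProperty.of_isPullback hp inferInstance
  have hbc := smoothOfRelativeDimension_isStableUnderBaseChange.{u} 1
  have i9 : SmoothOfRelativeDimension 1 qK :=
    MorphismProperty.of_isPullback (P := @SmoothOfRelativeDimension.{u} 1) hq inferInstance
  have i10 : SmoothOfRelativeDimension 1 (fK ≫ qK) :=
    MorphismProperty.of_isPullback (P := @SmoothOfRelativeDimension.{u} 1) hp inferInstance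
  have c1 : ConnectedSpace YK := SmoothCurve.connectedSpace_of_geometricallyConnected K qK
  have c2 : ConnectedSpace XK := SmoothCurve.connectedSpace_of_geometricallyConnected K (fK ≫ qK)
  have d1 : IsIntegral YK := SmoothCurve.isIntegral_of_smooth K qK
  have d2 : IsIntegral XK := SmoothCurve.isIntegral_of_smooth K (fK ≫ qK)
  have e1 : topologicalKrullDim YK = 1 := dim_eq_one K qK
  have e2 : topologicalKrullDim XK = 1 := dim_eq_one K (fK ≫ qK)
  let oXK : XK.Over (Spec (CommRingCat.of K)) := ⟨fK ≫ qK⟩
  let oYK : YK.Over (Spec (CommRingCat.of K)) := ⟨qK⟩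
  have hloc : IsLocallyNoetherian YK := LocallyOfFiniteType.isLocallyNoetherian qK
  have hcs : CompactSpace YK := (quasiCompact_iff_compactSpace (f := qK)).mp inferInstance
  have hnoe : IsNoetherian YK := {}
  have hnor : ∀ y : YK, IsIntegrallyClosed (YK.presheaf.stalk y) := fun y => by
    have := Groth.Agent.Sga5.SmoothField.isRegularLocalRing_stalk qK y
    exact CurvesC.RegNormal.isIntegrallyClosed _
  have g1 := Groth.Agent.S0223.finrank_eq k Y K YK (pullback.fst q s) hq 1
  have g2 := Groth.Agent.S0223.finrank_eq k X K XK (pullback.fst f (pullback.fst q s)) hp 1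
  have key := le_of_card fK hnor K (fun n hn => H K XK (fK ≫ qK) e2 rfl n hn)
    (fun n hn => H K YK qK e1 rfl n hn)
  rw [g1, g2] at key
  exact key

end K317.GenusLe
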