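import Groth.Agent.Dix.EtMinG
import Groth.Agent.S1544
import Groth.Agent.S1414
import Groth.Agent.S1612
import Groth.Agent.S1530
import Groth.Agent.Etalg.SepSol2
import Groth.Agent.Vancyc.H878.RelOmega
import Groth.Agent.Dual.H339.OmegaRank
import Groth.Agent.Krr.H495.Rank
import Groth.Agent.Curves.K317.SmoothCurve
import Groth.Agent.CurvesB.OmegaInv
import Groth.Agent.Flat2H.FamDict
import Mathlib.RingTheory.Etale.Field
import Groth.Prelude.Def_CurvBase

/-!
# The field of constants of a smooth proper curve, and ampleness of the differentials in genus at least two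
-/

set_option autoImplicit false
universe u
open CategoryTheory CategoryTheory.Limits AlgebraicGeometry TopologicalSpace
attribute [local instance] Curv2.stalkAlgebra

namespace K317.OmegaAmple

open Groth.Agent Groth.Agent.Dix Groth.Agent.Dix.EtMinF Groth.Agent.Dix.EtMinG

/-- The field of constants. -/
theorem exists_const (k : Type u) [Field k] (Y : Scheme.{u}) [Y.Over (Spec (CommRingCat.of k))]
    [IsIntegral Y] [IsProper (Y ↘ Spec (CommRingCat.of k))] :
    ∃ (K : Type u) (_ : Field K) (_ : Algebra k K) (_ : FiniteDimensional k K) (g : Y ⟶ Spec (CommRingCat.of K)),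
      (Y ↘ Spec (CommRingCat.of k)) = g ≫ Spec.map (CommRingCat.ofHom (algebraMap k K)) ∧ IsProper g ∧
      (letI : Y.Over (Spec (CommRingCat.of K)) := ⟨g⟩; Module.finrank K (Coh.HH Y (Coh.structureModule Y) 0) = 1) := by
  have hF : IsField Γ(Y, ⊤) := isField_of_universallyClosed k (Y ↘ Spec (CommRingCat.of k))
  have hsurj : ∀ {A B : CommRingCat.{u}} (f : A ⟶ B) [IsIso f], f.hom.Finite := fun f _ =>
    RingHom.Finite.of_surjective _ (ConcreteCategory.bijective_of_isIso f).2
  have hFin : ((Scheme.ΓSpecIso (CommRingCat.of k)).inv ≫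
      (Y ↘ Spec (CommRingCat.of k)).appTop).hom.Finite := by
    rw [CommRingCat.hom_comp]
    exact (finite_appTop_of_universallyClosed k (Y ↘ Spec (CommRingCat.of k))).comp (hsurj _)
  obtain ⟨K, iK, φ, -⟩ : ∃ (K : Type u) (_ : Field K) (_ : K ≃+* Γ(Y, ⊤)), True := by
    let _ := hF.toField
    exact ⟨Γ(Y, ⊤), inferInstance, RingEquiv.refl _, trivial⟩
  let ψ : CommRingCat.of K ≅ Γ(Y, ⊤) := φ.toCommRingCatIso
  let a : CommRingCat.of k ⟶ CommRingCat.of K := (Scheme.ΓSpecIso (CommRingCat.of k)).inv ≫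
    (Y ↘ Spec (CommRingCat.of k)).appTop ≫ ψ.inv
  let g : Y ⟶ Spec (CommRingCat.of K) := Y.toSpecΓ ≫ Spec.map ψ.hom
  let iAlg : Algebra k K := a.hom.toAlgebra
  let iOv : Y.Over (Spec (CommRingCat.of K)) := ⟨g⟩
  have ha : CommRingCat.ofHom (algebraMap k K) = a := rfl
  have hfac : (Y ↘ Spec (CommRingCat.of k)) = g ≫ Spec.map (CommRingCat.ofHom (algebraMap k K)) := by
    rw [ha]
    have h1 : Spec.map ψ.hom ≫ Spec.map ψ.inv = 𝟙 _ := by
      rw [← Spec.map_comp, Iso.inv_hom_id, Spec.map_id]
    have h2 := Scheme.toSpecΓ_naturality (Y ↘ Spec (CommRingCat.of k))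
    simp only [g, a, Spec.map_comp, Category.assoc]
    rw [reassoc_of% h1, ← reassoc_of% h2, toSpecΓ_SpecMap_ΓSpecIso_inv, Category.comp_id]
  have hKfin : FiniteDimensional k K := by
    have h3 : a.hom.Finite := by
      have h4 : a = ((Scheme.ΓSpecIso (CommRingCat.of k)).inv ≫
        (Y ↘ Spec (CommRingCat.of k)).appTop) ≫ ψ.inv := by simp [a]
      rw [h4, CommRingCat.hom_comp]
      exact (hsurj ψ.inv).comp hFin
    exact h3
  have hiso : IsIso (Y ↘ Spec (CommRingCat.of K)).appTop := by
    change IsIso (Y.toSpecΓ ≫ Spec.map ψ.hom).appTop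
    rw [Scheme.Hom.comp_appTop, Scheme.toSpecΓ_appTop]
    have h8 : IsIso (Spec.map ψ.hom).appTop := inferInstanceAs (IsIso ((Spec.map ψ.hom).app ⊤))
    exact IsIso.comp_isIso
  have hprop : IsProper (Y ↘ Spec (CommRingCat.of K)) := by
    have h5 : IsProper (g ≫ Spec.map (CommRingCat.ofHom (algebraMap k K))) := by
      rw [← hfac]; infer_instance
    exact IsProper.of_comp g (Spec.map (CommRingCat.ofHom (algebraMap k K)))
  exact ⟨K, iK, iAlg, hKfin, g, hfac, hprop, finrank_H0 K Y⟩

theorem toGlobal_const (k : Type u) [Field k] (Y : Scheme.{u}) [Y.Over (Spec (CommRingCat.of k))]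
    (K : Type u) [Field K] [Algebra k K] (g : Y ⟶ Spec (CommRingCat.of K))
    (hg : (Y ↘ Spec (CommRingCat.of k)) = g ≫ Spec.map (CommRingCat.ofHom (algebraMap k K))) (a : k) :
    Coh.toGlobal (Y ↘ Spec (CommRingCat.of k)) a = Coh.toGlobal g (algebraMap k K a) := by
  change (Y ↘ Spec (CommRingCat.of k)).appTop.hom ((Scheme.ΓSpecIso (CommRingCat.of k)).inv.hom a) =
    g.appTop.hom ((Scheme.ΓSpecIso (CommRingCat.of K)).inv.hom (algebraMap k K a))
  rw [hg, Scheme.Hom.comp_appTop]
  have := ConcreteCategory.congr_hom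
    (Scheme.ΓSpecIso_inv_naturality (CommRingCat.ofHom (algebraMap k K))) a
  exact congrArg _ this.symm

/-- An integral geometrically reduced scheme over a finite extension: the extension is separable. -/
theorem isSeparable_of_factor (k : Type u) [Field k] (Y : Scheme.{u}) [Y.Over (Spec (CommRingCat.of k))]
    [IsIntegral Y] [GeometricallyReduced (Y ↘ Spec (CommRingCat.of k))]
    (K : Type u) [Field K] [Algebra k K] [FiniteDimensional k K] (g : Y ⟶ Spec (CommRingCat.of K))
    (hg : (Y ↘ Spec (CommRingCat.of k)) = g ≫ Spec.map (CommRingCat.ofHom (algebraMap k K))) :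
    Algebra.IsSeparable k K := by
  have h1 : Algebra.IsGeometricallyReduced k Y.functionField := (Groth.Agent.S1544.result k Y).1 inferInstance
  let θ : K →+* Y.functionField := (Y.presheaf.germ ⊤ (genericPoint Y) trivial).hom.comp (Coh.toGlobal g)
  let θ' : K →ₐ[k] Y.functionField :=
    { θ with
      commutes' := fun r => by
        change θ (algebraMap k K r) = (Y.presheaf.germ ⊤ (genericPoint Y) trivial).hom
          (Coh.toGlobal (Y ↘ Spec (CommRingCat.of k)) r)
        rw [toGlobal_const k Y K g hg r]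
        rfl }
  have h2 : Algebra.IsGeometricallyReduced k K :=
    Algebra.IsGeometricallyReduced.of_injective θ' (RingHom.injective θ)
  exact Groth.Agent.Etalg.SepSol2.isSeparable_of_isGeometricallyReduced k K

theorem etale_of_isSeparable (k K : Type u) [Field k] [Field K] [Algebra k K] [FiniteDimensional k K]
    [Algebra.IsSeparable k K] : Etale (Spec.map (CommRingCat.ofHom (algebraMap k K))) := by
  have h1 : Algebra.FormallyEtale k K := Algebra.FormallyEtale.of_isSeparable k K
  have h2 : Algebra.FinitePresentation k K := Algebra.FinitePresentation.of_finiteType.1 inferInstance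
  have h : Algebra.Etale k K := ⟨h1, h2⟩
  rw [HasRingHomProperty.Spec_iff (P := @Etale), CommRingCat.hom_ofHom, RingHom.etale_algebraMap]
  exact h

/-- The cotangent sheaf does not change when the base is changed to a scheme etale over it. -/
theorem omega_comp_etale {U S B : Scheme.{u}} (f : U ⟶ S) (p : S ⟶ B) [Smooth f] [QuasiSeparated f]
    [Etale p] [QuasiSeparated p] : Nonempty (Omega.sheaf (f ≫ p) ≅ Omega.sheaf f) := by
  obtain ⟨C, hC, ⟨e1⟩, ⟨e2⟩, ⟨e3⟩⟩ := Vancyc.H878.RelOmega.exists_shortExact f p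
  have h0 : SmoothOfRelativeDimension 0 p := inferInstance
  have h1 : IsZero (Omega.sheaf p) :=
    Krr.H495.Rank.isZero_of_rank_zero (Dual.H339.OmegaRank.isFinLocFreeOfRank_omega 0 p)
  have h2 : IsZero C.X₁ := ((Scheme.Modules.pullback f).map_isZero h1).of_iso e1
  have h3 : Mono C.g := (hC.exact.mono_g_iff).2 (h2.eq_of_src _ _)
  have h4 := hC.epi_g
  have h5 : IsIso C.g := isIso_of_mono_of_epi _
  exact ⟨e2.symm ≪≫ asIso C.g ≪≫ e3⟩

/-- A smooth proper curve (irreducible, over any field) of Euler characteristic at most `-1` has ample cotangent sheaf. -/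
theorem isAmple_omega (k : Type u) [Field k] (Y : Scheme.{u}) [Y.Over (Spec (CommRingCat.of k))]
    [IsIntegral Y] [IsProper (Y ↘ Spec (CommRingCat.of k))] [Smooth (Y ↘ Spec (CommRingCat.of k))]
    (hdim : topologicalKrullDim Y = 1)
    (hχ : (2 : ℤ) ≤ 1 - (Module.finrank k (Coh.HH Y (Coh.structureModule Y) 0) : ℤ) +
      Module.finrank k (Coh.HH Y (Coh.structureModule Y) 1)) :
    CohB1.IsAmple (Omega.sheaf (Y ↘ Spec (CommRingCat.of k))) := by
  obtain ⟨K, _, _, _, g, hg, hgp, h0⟩ := exists_const k Y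
  have hgr := SmoothCurve.geometricallyReduced_of_smooth (Y ↘ Spec (CommRingCat.of k))
  have hsep := isSeparable_of_factor k Y K g hg
  have het := etale_of_isSeparable k K
  have hgs : Smooth g := by
    have : Smooth (g ≫ Spec.map (CommRingCat.ofHom (algebraMap k K))) := by
      rw [← hg]
      infer_instance
    exact Groth.Agent.S1414.result g (Spec.map (CommRingCat.ofHom (algebraMap k K)))
  let iOv : Y.Over (Spec (CommRingCat.of K)) := ⟨g⟩
  have hgp' : IsProper (Y ↘ Spec (CommRingCat.of K)) := hgp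
  have hC : Curve.IsSmoothProperCurve K Y (Y ↘ Spec (CommRingCat.of K)) := ⟨hgp, hgs, inferInstance, hdim⟩
  obtain ⟨-, h2⟩ := Groth.Agent.S1612.result K Y hC h0
  have e0 := Cast0.finrank_HH_const k K Y hg (Coh.structureModule Y) 0
  have e1 := Cast0.finrank_HH_const k K Y hg (Coh.structureModule Y) 1
  have hKpos : 0 < Module.finrank k K := Module.finrank_pos
  rw [e0, e1, h0, mul_one] at hχ
  have h3 : 2 ≤ Module.finrank K (Coh.HH Y (Coh.structureModule Y) 1) := by
    by_contra hcon
    have h4 : Module.finrank K (Coh.HH Y (Coh.structureModule Y) 1) ≤ 1 := by omega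
    have h5 := Nat.mul_le_mul_left (Module.finrank k K) h4
    push_cast at hχ
    have h6 : ((Module.finrank k K * Module.finrank K (Coh.HH Y (Coh.structureModule Y) 1) : ℕ) : ℤ) ≤
      (Module.finrank k K * 1 : ℕ) := by exact_mod_cast h5
    push_cast at h6
    linarith
  have hinv : PicF.IsInvertible (Omega.sheaf g) := CurvesB.OmegaInv.isInvertible_omega g hdim
  have h2' : Curv2.deg K Y (Omega.sheaf g) 1 = 2 * (Curv2.genus K Y : ℤ) - 2 := h2
  have h8 : CohB1.IsAmple (Omega.sheaf g) :=
    (Groth.Agent.S1530.result K Y hdim (Omega.sheaf g) hinv).2 (by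
      rw [h2']
      have : (2 : ℤ) ≤ Curv2.genus K Y := by exact_mod_cast h3
      linarith)
  obtain ⟨e⟩ := omega_comp_etale g (Spec.map (CommRingCat.ofHom (algebraMap k K)))
  rw [hg]
  exact Groth.Agent.Flat2H.FamDict.isAmple_of_iso e.symm h8

end K317.OmegaAmple
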