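import Groth.Agent.VarietyA.H0Equiv
import Groth.Agent.Fdesc.LocGen

/-!
# Sections and `H^0`
-/

set_option autoImplicit false
universe u
open CategoryTheory CategoryTheory.Limits AlgebraicGeometry Opposite TopologicalSpace

namespace K317.Sec0

open Groth.Agent.Fdesc.LocGen Groth.Agent

variable {Z : Scheme.{u}}

/-- A module all of whose sections (as maps from the structure sheaf) vanish has no `H^0`. -/
theorem subsingleton_of_forall {L : Z.Modules} (hcon : ∀ s : Coh.structureModule Z ⟶ L, s = 0) :
    Subsingleton (Coh.HH Z L 0) := by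
  refine (VarietyA.H0Equiv.hZeroEquiv L).toEquiv.subsingleton_congr.mpr ?_
  refine subsingleton_of_forall_eq (0 : Γ(L, ⊤)) fun t => ?_
  have h1 : homOf (t : Γ(L, ⊤)) = 0 := hcon _
  have h2 := congrArg (fun s => sec s ⊤) h1
  beta_reduce at h2
  rw [sec_homOf, res_refl] at h2
  exact h2

/-- A module with `h⁰ > 0` has a nonzero section. -/
theorem exists_section (k : Type u) [Field k] [Z.Over (Spec (CommRingCat.of k))]
    {L : Z.Modules} (h : 0 < Module.finrank k (Coh.HH Z L 0)) :
    ∃ s : Coh.structureModule Z ⟶ L, s ≠ 0 := by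
  by_contra hcon
  push Not at hcon
  have := subsingleton_of_forall hcon
  rw [Module.finrank_zero_of_subsingleton] at h
  exact lt_irrefl _ h

/-- Nontrivial `H^0` gives a nonzero section. -/
theorem exists_section_of_nontrivial {L : Z.Modules} (h : Nontrivial (Coh.HH Z L 0)) :
    ∃ s : Coh.structureModule Z ⟶ L, s ≠ 0 := by
  by_contra hcon
  push Not at hcon
  have := subsingleton_of_forall hcon
  exact not_subsingleton _ this

/-- If `H^0` vanishes, all sections are zero. -/
theorem eq_zero_of_subsingleton {L : Z.Modules} (h : Subsingleton (Coh.HH Z L 0))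
    (s : Coh.structureModule Z ⟶ L) : s = 0 := by
  have h1 : Subsingleton Γ(L, ⊤) := (VarietyA.H0Equiv.hZeroEquiv L).toEquiv.subsingleton_congr.mp h
  have h2 : homOf (sec s ⊤) = s := homOf_sec s
  rw [← h2, Subsingleton.elim (sec s ⊤) 0, ← Subsingleton.elim (sec (0 : Coh.structureModule Z ⟶ L) ⊤) 0, homOf_sec]

end K317.Sec0
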