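import Groth.Agent.Curves.K317.Sums
import Groth.Agent.Curves.K317.Sec0
import Groth.Agent.CurvesB.OmegaTF
import Groth.Agent.Sga67.TwistProj
import Groth.Agent.Dix.Cast2
import Groth.Agent.Lefpen.H717.ProjIrr
import Groth.Agent.S0843
import Groth.Agent.S0844
import Groth.Agent.S0002
import Groth.Agent.Dcoh.Spread
import Groth.Agent.Ega2.QCohLocal
import Groth.Agent.CurvesC.HV0
import Groth.Agent.CohqB.QC4
import Groth.Agent.VarietyA.DegRank
import Groth.Agent.PerfA.CohSerre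
import Groth.Agent.Dix.ProjProper

/-!
# Twists and sections of vector bundles on projective space
-/

set_option autoImplicit false
universe u
open CategoryTheory CategoryTheory.Limits AlgebraicGeometry Opposite TopologicalSpace

namespace K317.P1Split

open Groth.Agent Groth.Agent.CurvesC Groth.Agent.Sga67.TwistProj

theorem mono_of_ne_zero {X : Scheme.{u}} [IsIntegral X] {F : X.Modules} (hF : CurvesB.GenStk.TF F)
    (s : Coh.structureModule X ⟶ F) (hs : s ≠ 0) : Mono s := by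
  refine PerfB.TildeExact.mono_of_app_injective s fun U => ?_
  by_cases hU : genericPoint X ∈ U
  · refine CurvesB.OmegaTF.app_injective CurvesB.TFLemmas.tf_structureModule hF ?_ s hs U hU
    exact VarietyA.DegRank.rk_structureModule (X := X)
  · have h : ∀ t : Γ(Coh.structureModule X, U), t = 0 := fun t =>
      Ega1.ModGerm.section_eq_zero _ _ fun y hy => absurd (CurvesB.GenStk.gmem hy) hU
    intro a b _
    rw [h a, h b]

variable (k : Type u) [Field k]

theorem h0_twist (m : ℤ) : Module.Finite k (HV (CohB1.ProjSpace 1 k) (Twist.twistProjSpace 1 k m) 0) ∧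
    Module.finrank k (HV (CohB1.ProjSpace 1 k) (Twist.twistProjSpace 1 k m) 0) = (m + 1).toNat := by
  by_cases h : 0 ≤ m
  · obtain ⟨d, rfl⟩ := Int.eq_ofNat_of_zero_le h
    obtain ⟨e⟩ := Groth.Agent.S0843.result k 1 d
    have h1 := Dix.Cast2.finrank_homogeneous_two k d
    have h2 : Module.finrank k (HV (CohB1.ProjSpace 1 k) (Twist.twistProjSpace 1 k (d : ℤ)) 0) = d + 1 :=
      e.finrank_eq.trans h1
    refine ⟨Module.finite_of_finrank_pos (by omega), ?_⟩
    rw [h2]
    omega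
  · have h1 : Subsingleton (HV (CohB1.ProjSpace 1 k) (Twist.twistProjSpace 1 k m) 0) :=
      Groth.Agent.S0844.result k 1 m 0 (by omega) (by omega)
    refine ⟨inferInstance, ?_⟩
    rw [Module.finrank_zero_of_subsingleton]
    omega

variable {k}

/-- A nonzero map `O → E(n)` bounds `h⁰(O(-n))` by `h⁰(E)`. -/
theorem exists_mono {E : (CohB1.ProjSpace 1 k).Modules} (hE : FlatMod.IsFinLocFree E) (n : ℤ)
    (h : Nontrivial (Coh.HH (CohB1.ProjSpace 1 k) ((tA 1 k n).obj E) 0)) :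
    ∃ φ : Twist.twistProjSpace 1 k (-n) ⟶ E, Mono φ := by
  obtain ⟨s, hs⟩ := K317.Sec0.exists_section_of_nontrivial h
  have hF := isFinLocFree_tA n hE
  have htf : CurvesB.GenStk.TF ((tA 1 k n).obj E) :=
    CurvesB.TFLemmas.tf_of_isFlat (PerfA.CohSerre.isCoh_of_isFinLocFree hF).1 (Dcoh.Spread.isFlat_of_isFinLocFree hF)
  have hm := mono_of_ne_zero htf s hs
  obtain ⟨e1⟩ := nonempty_tA_tA 1 k (-n) n 0 (by omega) E
  obtain ⟨e2⟩ := nonempty_tA_zero 1 k E
  have h1 : Mono ((tA 1 k (-n)).map s) := (tA 1 k (-n)).map_mono s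
  let i1 : Twist.twistProjSpace 1 k (-n) ≅ (tA 1 k (-n)).obj (Coh.structureModule _) :=
    (Ega2.Tens.runit (Twist.twistProjSpace 1 k (-n))).symm
  let i2 : (tA 1 k (-n)).obj ((tA 1 k n).obj E) ≅ E := e1 ≪≫ e2
  have h2 : Mono ((tA 1 k (-n)).map s ≫ i2.hom) := mono_comp _ _
  exact ⟨i1.hom ≫ (tA 1 k (-n)).map s ≫ i2.hom, mono_comp _ _⟩

theorem hv_injective {X : Scheme.{u}} [X.Over (Spec (CommRingCat.of k))] {F G : X.Modules} (φ : F ⟶ G)
    [Mono φ] : Function.Injective (HV.map k φ 0) := by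
  intro a b hab
  apply (HV.zero F).injective
  apply CohqB.QC4.app_injective_of_mono φ ⊤
  rw [← HV.zero_map k, ← HV.zero_map k, hab]

/-- A locally free module has no sections after twisting down far enough. -/
theorem vanish {E : (CohB1.ProjSpace 1 k).Modules} (hE : FlatMod.IsFinLocFree E) :
    ∃ n₀ : ℤ, ∀ n : ℤ, n ≤ n₀ → Subsingleton (Coh.HH (CohB1.ProjSpace 1 k)
      (CohB1.tensorMod E (Twist.twistProjSpace 1 k n)) 0) := by
  have hp : IsProper (CohB1.ProjSpace 1 k ↘ Spec (CommRingCat.of k)) := Dix.ProjProper.isProper_toSpec 1 k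
  have hfin : Module.Finite k (HV (CohB1.ProjSpace 1 k) E 0) :=
    Groth.Agent.S0002.result k (CohB1.ProjSpace 1 k) E (PerfA.CohSerre.isCoh_of_isFinLocFree hE) 0
  refine ⟨- (Module.finrank k (HV (CohB1.ProjSpace 1 k) E 0) : ℤ), fun n hn => ?_⟩
  rw [hh_iff]
  by_contra hcon
  rw [not_subsingleton_iff_nontrivial] at hcon
  obtain ⟨φ, hφ⟩ := exists_mono hE n hcon
  have h1 := LinearMap.finrank_le_finrank_of_injective (hv_injective (k := k) φ)
  rw [(h0_twist k (-n)).2] at h1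
  omega

/-- Twisting a direct sum of twists. -/
theorem nonempty_tA_coproduct {r : ℕ} (d : Fin r → ℤ) (m : ℤ) :
    Nonempty ((tA 1 k m).obj (∐ fun i => Twist.twistProjSpace 1 k (d i)) ≅
      ∐ fun i => Twist.twistProjSpace 1 k (m + d i)) :=
  ⟨PreservesCoproduct.iso (tA 1 k m) _ ≪≫ Sigma.mapIso fun i => (nonempty_mul 1 k m (d i)).some⟩

theorem h0_coproduct {r : ℕ} (d : Fin r → ℤ) :
    Module.finrank k (HV (CohB1.ProjSpace 1 k) (∐ fun i => Twist.twistProjSpace 1 k (d i)) 0) =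
      ∑ i, (d i + 1).toNat := by
  rw [Sums.finrank_coproduct k _ 0 fun i => (h0_twist k (d i)).1]
  exact Finset.sum_congr rfl fun i _ => (h0_twist k (d i)).2

/-- The splitting type of a direct sum of twists is determined by the isomorphism class. -/
theorem eq_of_iso {r : ℕ} {d e : Fin r → ℤ} (hd : Antitone d) (he : Antitone e)
    (h : Nonempty ((∐ fun i => Twist.twistProjSpace 1 k (d i)) ≅ ∐ fun i => Twist.twistProjSpace 1 k (e i))) :
    d = e := by
  obtain ⟨φ⟩ := h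
  refine Sums.eq_of_antitone hd he fun m => ?_
  obtain ⟨a⟩ := nonempty_tA_coproduct (k := k) d (-m)
  obtain ⟨b⟩ := nonempty_tA_coproduct (k := k) e (-m)
  have h1 := (Sums.hvIso k (a.symm ≪≫ (tA 1 k (-m)).mapIso φ ≪≫ b) 0).finrank_eq
  rw [h0_coproduct, h0_coproduct] at h1
  rw [Finset.sum_congr rfl fun i _ => show (d i - m + 1).toNat = (-m + d i + 1).toNat by congr 1; ring,
    Finset.sum_congr rfl fun i _ => show (e i - m + 1).toNat = (-m + e i + 1).toNat by congr 1; ring]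
  exact h1

theorem rank_one (m : ℤ) : FlatMod.IsFinLocFreeOfRank 1 (Twist.twistProjSpace 1 k m) :=
  Ega2.QCohLocal.isFinLocFreeOfRank_one_iff.2 (Ega3B.ProjFrame.isInvertible_twistProjSpace 1 k m)

/-- From any splitting to the unique ordered one. -/
theorem of_splitting {r : ℕ} {E : (CohB1.ProjSpace 1 k).Modules} (hE : FlatMod.IsFinLocFreeOfRank r E)
    {n : ℕ} (a : Fin n → ℤ) (h : Nonempty (E ≅ ∐ fun j => Twist.twistProjSpace 1 k (a j))) :
    ∃! d : Fin r → ℤ, Antitone d ∧ Nonempty (E ≅ ∐ fun i : Fin r => Twist.twistProjSpace 1 k (d i)) := by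
  obtain ⟨φ⟩ := h
  obtain rfl : r = n := Krr.H495.Rank.rank_unique (Krr.H495.Rank.rank_iso φ hE)
    (Sums.rank_coproduct _ fun j => rank_one (k := k) (a j))
  obtain ⟨σ, hσ⟩ := Sums.exists_antitone a
  have e1 : (∐ fun j => Twist.twistProjSpace 1 k (a (σ j))) ≅ ∐ fun j => Twist.twistProjSpace 1 k (a j) :=
    Sigma.whiskerEquiv (f := fun j => Twist.twistProjSpace 1 k (a (σ j)))
      (g := fun j => Twist.twistProjSpace 1 k (a j)) σ fun _ => Iso.refl _
  refine ⟨a ∘ σ, ⟨hσ, ⟨φ ≪≫ e1.symm⟩⟩, ?_⟩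
  rintro d ⟨hd, ⟨ψ⟩⟩
  exact eq_of_iso hd hσ ⟨ψ.symm ≪≫ φ ≪≫ e1.symm⟩

/-- Splitting of a vector bundle on the projective line from the criterion (Horrocks) in dimension one. -/
theorem main (H : ∀ F : (CohB1.ProjSpace 1 k).Modules, Coh.IsCoh F → ¬ IsZero F →
      (∃ n₀ : ℤ, ∀ n : ℤ, n ≤ n₀ → Subsingleton (Coh.HH (CohB1.ProjSpace 1 k)
        (CohB1.tensorMod F (Twist.twistProjSpace 1 k n)) 0)) →
      ∃ (r : ℕ) (a : Fin r → ℤ), Nonempty (F ≅ ∐ fun j => Twist.twistProjSpace 1 k (a j)))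
    {r : ℕ} {E : (CohB1.ProjSpace 1 k).Modules} (hE : FlatMod.IsFinLocFreeOfRank r E) :
    ∃! d : Fin r → ℤ, Antitone d ∧ Nonempty (E ≅ ∐ fun i : Fin r => Twist.twistProjSpace 1 k (d i)) := by
  by_cases h0 : IsZero E
  · obtain rfl : r = 0 := Krr.H495.Rank.rank_unique hE (Sums.rank_zero_of_isZero h0)
    refine of_splitting hE (fun i : Fin 0 => i.elim0) ⟨h0.iso ?_⟩
    rw [IsZero.iff_id_eq_zero]
    apply Sigma.hom_ext
    exact fun i => i.elim0
  · have hfl := Ega2.QCohLocal.isFinLocFree_of_rank hE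
    obtain ⟨n, a, h⟩ := H E (PerfA.CohSerre.isCoh_of_isFinLocFree hfl) h0 (vanish hfl)
    exact of_splitting hE a h

end K317.P1Split
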